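import Groth.Agent.LimSm.Core
import Groth.Agent.FlatSyz5.Colim
import Mathlib.CategoryTheory.Presentable.Directed
import Mathlib.AlgebraicGeometry.Morphisms.Flat

/-! Descent of flatness along limits (EGA IV 11.2.6). -/

set_option autoImplicit false
universe u

namespace Groth.Agent.LimSm

open AlgebraicGeometry CategoryTheory Limits TopologicalSpace TensorProduct Opposite
open Groth.Agent.MorLib

/-- Descent over affine bases may be checked for affine sources. -/
theorem core_of_affineSource (P Q : MorphismProperty Scheme.{u}) [P.IsStableUnderBaseChange]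
    [IsZariskiLocalAtSource P] [P.RespectsIso]
    (hP : ∀ {X Y Z : Scheme.{u}} (j : X ⟶ Y) [IsOpenImmersion j] (f : Y ⟶ Z), P f → P (j ≫ f))
    (hQ : ∀ {X Y Z : Scheme.{u}} (j : X ⟶ Y) [IsOpenImmersion j] (f : Y ⟶ Z), Q f → Q (j ≫ f))
    (H : ∀ (I : Type u) [SmallCategory I] [IsCofiltered I] (D : I ⥤ Scheme.{u}) (c : Cone D),
      IsLimit c → (∀ (i j : I) (f : i ⟶ j), IsAffineHom (D.map f)) →
      ∀ (i : I), IsAffine (D.obj i) → ∀ {X₀ : Scheme.{u}} (f₀ : X₀ ⟶ D.obj i), IsAffine X₀ → Q f₀ →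
        P (pullback.snd f₀ (c.π.app i)) → ∃ (j : I) (φ : j ⟶ i), P (pullback.snd f₀ (D.map φ))) :
    Desc.Core P Q := by
  intro I _ _ D c hc hD i hi X₀ f₀ hcs hqs hQ₀ h
  classical
  haveI := hcs
  have hloc : ∀ W : X₀.affineOpens, ∃ (j : I) (φ : j ⟶ i),
      P (pullback.snd (W.1.ι ≫ f₀) (D.map φ)) := by
    intro W
    have hp := (IsPullback.of_hasPullback W.1.ι (pullback.fst f₀ (c.π.app i))).paste_vert
      (IsPullback.of_hasPullback f₀ (c.π.app i))
    haveI : IsOpenImmersion (pullback.snd W.1.ι (pullback.fst f₀ (c.π.app i))) :=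
      MorphismProperty.pullback_snd _ _ inferInstance
    exact H I D c hc hD i hi (W.1.ι ≫ f₀) W.2 (hQ _ _ hQ₀)
      (Desc.of_two P hp (IsPullback.of_hasPullback _ _) (hP _ _ h))
  have hcov : ∀ p : X₀, ∃ V : X₀.affineOpens, p ∈ V.1 := fun p => by
    obtain ⟨V, hV, hp, -⟩ := exists_isAffineOpen_mem_and_subset (x := p) (U := ⊤) trivial
    exact ⟨⟨V, hV⟩, hp⟩
  choose W hW using hcov
  obtain ⟨F, hF⟩ := isCompact_univ.elim_finite_subcover (fun p => (((W p).1 : X₀.Opens) : Set X₀))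
    (fun p => (W p).1.2) fun p _ => Set.mem_iUnion.mpr ⟨p, hW p⟩
  choose k φ hk using fun p : F => hloc (W p.1)
  obtain ⟨j, ψ, χ, hχ⟩ := IsCofiltered.wideCospan φ
  refine ⟨j, ψ, ?_⟩
  refine IsZariskiLocalAtSource.of_iSup_eq_top (P := P)
    (fun p : F => pullback.fst f₀ (D.map ψ) ⁻¹ᵁ (W p.1).1) ?_ fun p => ?_
  · refine top_le_iff.mp fun x _ => ?_
    obtain ⟨q, hq, hx⟩ := Set.mem_iUnion₂.mp (hF (Set.mem_univ (pullback.fst f₀ (D.map ψ) x)))
    exact Opens.mem_iSup.mpr ⟨⟨q, hq⟩, hx⟩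
  · have hp := (isPullback_morphismRestrict (pullback.fst f₀ (D.map ψ)) (W p.1).1).paste_vert
      (IsPullback.of_hasPullback f₀ (D.map ψ))
    exact Desc.of_factor P (hk p) (a := D.map (χ p))
      (by rw [← D.map_comp, hχ p]) hp

set_option backward.isDefEq.respectTransparency.types false in
/-- Flatness for `appTop` of a cartesian square of affine schemes, in algebraic terms. -/
theorem flat_iff_tensor {X S T P : Scheme.{u}} [IsAffine X] [IsAffine S] [IsAffine T] [IsAffine P]
    {fst : P ⟶ X} {snd : P ⟶ T} {f : X ⟶ S} {g : T ⟶ S} (h : IsPullback fst snd f g) :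
    letI := f.appTop.hom.toAlgebra
    letI := g.appTop.hom.toAlgebra
    Flat snd ↔ Module.Flat Γ(T, ⊤) (Γ(T, ⊤) ⊗[Γ(S, ⊤)] Γ(X, ⊤)) := by
  letI := f.appTop.hom.toAlgebra
  letI := g.appTop.hom.toAlgebra
  have hp := (isPushout_appTop_of_isPullback h).flip
  have hq := CommRingCat.isPushout_tensorProduct Γ(S, ⊤) Γ(T, ⊤) Γ(X, ⊤)
  let e := hq.isoIsPushout _ _ hp
  have he : CommRingCat.ofHom (Algebra.TensorProduct.includeLeftRingHom
      (R := Γ(S, ⊤)) (A := Γ(T, ⊤)) (B := Γ(X, ⊤))) ≫ e.hom = snd.appTop :=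
    IsPushout.inl_isoIsPushout_hom _ _ hq hp
  rw [HasRingHomProperty.iff_of_isAffine (P := @Flat), ← he, CommRingCat.hom_comp,
    ← RingHom.flat_algebraMap_iff]
  constructor
  · intro hs
    have := RingHom.Flat.respectsIso.1 _ e.symm.commRingCatIsoToRingEquiv hs
    have heq : e.symm.commRingCatIsoToRingEquiv.toRingHom.comp (e.hom.hom.comp
        (CommRingCat.ofHom (Algebra.TensorProduct.includeLeftRingHom
          (R := Γ(S, ⊤)) (A := Γ(T, ⊤)) (B := Γ(X, ⊤)))).hom) =
        algebraMap Γ(T, ⊤) (Γ(T, ⊤) ⊗[Γ(S, ⊤)] Γ(X, ⊤)) :=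
      RingHom.ext fun x => congr($(e.hom_inv_id).hom (algebraMap Γ(T, ⊤) (Γ(T, ⊤) ⊗[Γ(S, ⊤)] Γ(X, ⊤)) x))
    exact heq ▸ this
  · intro hs
    exact RingHom.Flat.respectsIso.1 _ e.commRingCatIsoToRingEquiv hs

set_option backward.isDefEq.respectTransparency.types false in
/-- Descent of flatness: affine case. -/
theorem affineCase_flat {I : Type u} [SmallCategory I] [IsCofiltered I] (D : I ⥤ Scheme.{u}) (c : Cone D)
    (hc : IsLimit c) [∀ {i j : I} (f : i ⟶ j), IsAffineHom (D.map f)] (i : I) [IsAffine (D.obj i)]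
    {X₀ : Scheme.{u}} (f₀ : X₀ ⟶ D.obj i) [IsAffine X₀]
    [LocallyOfFinitePresentation f₀] (h : Flat (pullback.snd f₀ (c.π.app i))) :
    ∃ (j : I) (φ : j ⟶ i), Flat (pullback.snd f₀ (D.map φ)) := by
  haveI hA : IsAffineHom (c.π.app i) := isAffineHom_π_app D c hc i
  haveI hAi : IsAffine (((Functor.const I).obj c.pt).obj i) :=
    isAffine_of_isAffineHom (c.π.app i)
  haveI : IsAffine c.pt := hAi
  haveI : ∀ j : Over i, IsAffine (D.obj j.left) := fun j => isAffine_of_isAffineHom (D.map j.hom)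
  obtain ⟨α, _, _, _, F, _⟩ := IsFiltered.exists_directed (Over i)ᵒᵖ
  haveI : IsFiltered α := inferInstance
  let E : αᵒᵖ ⥤ Scheme.{u} := F.leftOp ⋙ Over.forget i ⋙ D
  let cE : Cone E := (c.whisker (Over.forget i)).whisker F.leftOp
  haveI : F.leftOp.Initial := inferInstance
  have hcE : IsLimit cE := (Functor.Initial.isLimitWhiskerEquiv F.leftOp (c.whisker (Over.forget i))).symm
    ((Functor.Initial.isLimitWhiskerEquiv (Over.forget i) c).symm hc)
  haveI : ∀ a : αᵒᵖ, IsAffine (E.obj a) := fun a =>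
    inferInstanceAs (IsAffine (D.obj (F.obj a.unop).unop.left))
  haveI : ∀ {a b : αᵒᵖ} (m : a ⟶ b), IsAffineHom (E.map m) := fun m => isAffineHom_of_isAffine _
  letI := f₀.appTop.hom.toAlgebra
  let G : α → Type u := fun a => Γ(D.obj (F.obj a).unop.left, ⊤)
  letI : ∀ a, Algebra Γ(D.obj i, ⊤) (G a) := fun a =>
    (D.map (F.obj a).unop.hom).appTop.hom.toAlgebra
  letI : Algebra Γ(D.obj i, ⊤) Γ(c.pt, ⊤) := (c.π.app i).appTop.hom.toAlgebra
  letI : ∀ a, Algebra (G a) Γ(c.pt, ⊤) := fun a => (c.π.app (F.obj a).unop.left).appTop.hom.toAlgebra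
  haveI : ∀ a, IsScalarTower Γ(D.obj i, ⊤) (G a) Γ(c.pt, ⊤) := fun a =>
    IsScalarTower.of_algebraMap_eq fun x => (Desc.π_map_apply (F.obj a).unop x).symm
  haveI : Algebra.FinitePresentation Γ(D.obj i, ⊤) Γ(X₀, ⊤) :=
    (HasRingHomProperty.iff_of_isAffine (P := @LocallyOfFinitePresentation)).mp ‹_›
  let g : ∀ a b, a ≤ b → G a →ₐ[Γ(D.obj i, ⊤)] G b := fun a b h =>
    { (D.map (F.map (homOfLE h)).unop.left).appTop.hom with
      commutes' := fun x => Desc.map_map_apply (F.map (homOfLE h)).unop x }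
  have hG : FlatCA.IsDirectedColimitRing G (fun a b h => (g a b h).toRingHom) Γ(c.pt, ⊤) := by
    refine ⟨inferInstance, inferInstance, fun a => RingHom.ext fun x => ?_,
      fun a b d hab hbd => RingHom.ext fun x => ?_, fun a b h => RingHom.ext fun x => ?_, fun z => ?_,
      fun a x hx => ?_⟩
    · show (D.map (F.map (homOfLE (le_refl a))).unop.left).appTop x = x
      rw [show homOfLE (le_refl a) = 𝟙 a from Subsingleton.elim _ _, F.map_id, unop_id, Over.id_left,
        D.map_id]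
      rfl
    · show (D.map (F.map (homOfLE hbd)).unop.left).appTop ((D.map (F.map (homOfLE hab)).unop.left).appTop x) =
        (D.map (F.map (homOfLE (hab.trans hbd))).unop.left).appTop x
      rw [show homOfLE (hab.trans hbd) = homOfLE hab ≫ homOfLE hbd from Subsingleton.elim _ _, F.map_comp,
        unop_comp, Over.comp_left, D.map_comp, Scheme.Hom.comp_appTop]
      rfl
    · show (c.π.app (F.obj b).unop.left).appTop ((D.map (F.map (homOfLE h)).unop.left).appTop x) =
        (c.π.app (F.obj a).unop.left).appTop x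
      rw [← c.w (F.map (homOfLE h)).unop.left, Scheme.Hom.comp_appTop]
      rfl
    · obtain ⟨a, y, hy⟩ := exists_appTop_π_eq_of_isAffine_of_isLimit E cE hcE z
      exact ⟨a.unop, y, hy⟩
    · obtain ⟨b, m, hm⟩ := exists_appTop_map_eq_zero_of_isLimit E cE hcE (i := op a) x hx
      refine ⟨b.unop, leOfHom m.unop, ?_⟩
      show (D.map (F.map (homOfLE (leOfHom m.unop))).unop.left).appTop x = 0
      rw [show homOfLE (leOfHom m.unop) = m.unop from Subsingleton.elim _ _]
      exact hm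
  haveI hP : IsAffine (pullback f₀ (c.π.app i)) := inferInstance
  obtain ⟨a, ha⟩ := FlatSyz5.exists_flat_stage (B₀ := Γ(X₀, ⊤)) G g Γ(c.pt, ⊤) hG Γ(X₀, ⊤)
    ((flat_iff_tensor (IsPullback.of_hasPullback f₀ (c.π.app i))).mp h)
  let j : Over i := (F.obj a).unop
  haveI : IsAffine (pullback f₀ (D.map j.hom)) := inferInstance
  exact ⟨j.left, j.hom, (flat_iff_tensor (IsPullback.of_hasPullback f₀ (D.map j.hom))).mpr ha⟩

/-- Flatness descends along limits for morphisms of finite presentation. -/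
theorem core_flat : Desc.Core @Flat (@LocallyOfFinitePresentation : MorphismProperty Scheme.{u}) :=
  haveI : IsZariskiLocalAtSource (@Flat : MorphismProperty Scheme.{u}) :=
    HasRingHomProperty.instIsZariskiLocalAtSource
  haveI : MorphismProperty.RespectsIso (@Flat : MorphismProperty Scheme.{u}) :=
    MorphismProperty.IsStableUnderBaseChange.respectsIso
  core_of_affineSource (@Flat : MorphismProperty Scheme.{u}) (@LocallyOfFinitePresentation : MorphismProperty Scheme.{u})
    (fun j _ f hf => haveI := hf; inferInstanceAs (Flat (j ≫ f)))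
    (fun j _ f hf => haveI := hf; inferInstanceAs (LocallyOfFinitePresentation (j ≫ f)))
    fun I _ _ D c hc hD i hi X₀ f₀ hX hQ h => by
      haveI : ∀ {i j : I} (f : i ⟶ j), IsAffineHom (D.map f) := fun {i j} f => hD i j f
      haveI := hi
      haveI := hX
      haveI : LocallyOfFinitePresentation f₀ := hQ
      exact affineCase_flat D c hc i f₀ h

end Groth.Agent.LimSm
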