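import Groth.Agent.LimSm.Core
import Groth.Agent.MorLib.LimTop
import Groth.Agent.AlgSpPts.Sep
import Mathlib.AlgebraicGeometry.Morphisms.Etale

/-! Smooth, étale, unramified morphisms and neighbourhoods along limits. -/

set_option autoImplicit false
universe u

namespace Groth.Agent.LimSm

open AlgebraicGeometry CategoryTheory Limits TopologicalSpace
open Groth.Agent.MorLib

set_option backward.isDefEq.respectTransparency.types false

theorem core_formallyUnramified :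
    Desc.Core @FormallyUnramified (@LocallyOfFinitePresentation : MorphismProperty Scheme.{u}) := by
  intro I _ _ D c hc hD i hi X₀ f₀ hcs hqs hQ h
  haveI : LocallyOfFinitePresentation f₀ := hQ
  exact Desc.core_formallyUnramified I D c hc hD i hi f₀ hcs hqs
    (inferInstanceAs (LocallyOfFiniteType f₀)) h

theorem core_etale : Desc.Core @Etale (@LocallyOfFinitePresentation : MorphismProperty Scheme.{u}) := by
  intro I _ _ D c hc hD i hi X₀ f₀ hcs hqs hQ h
  haveI : Etale (pullback.snd f₀ (c.π.app i)) := h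
  obtain ⟨j₁, φ₁, h₁⟩ := core_smooth I D c hc hD i hi f₀ hcs hqs hQ inferInstance
  obtain ⟨j₂, φ₂, h₂⟩ := core_formallyUnramified I D c hc hD i hi f₀ hcs hqs hQ inferInstance
  obtain ⟨j, a, b, hab⟩ := IsCofiltered.cospan φ₁ φ₂
  refine ⟨j, a ≫ φ₁, ?_⟩
  haveI : Smooth (pullback.snd f₀ (D.map (a ≫ φ₁))) :=
    Desc.of_factor @Smooth h₁ (a := D.map a) (by rw [← D.map_comp]) (IsPullback.of_hasPullback _ _)
  haveI : FormallyUnramified (pullback.snd f₀ (D.map (a ≫ φ₁))) :=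
    Desc.of_factor @FormallyUnramified h₂ (a := D.map b) (by rw [← D.map_comp, hab])
      (IsPullback.of_hasPullback _ _)
  exact Etale.iff_flat_and_formallyUnramified.mpr ⟨inferInstance, inferInstance, inferInstance⟩

/-- Cancelling a monomorphism on the target. -/
theorem of_comp_mono {P : MorphismProperty Scheme.{u}} [P.IsStableUnderBaseChange] {X Y Z : Scheme.{u}}
    (a : X ⟶ Y) (h : Y ⟶ Z) [Mono h] (hP : P (a ≫ h)) : P a := by
  have s1 : IsPullback (𝟙 X) a a (𝟙 Y) := IsPullback.of_horiz_isIso ⟨by simp⟩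
  have s2 : IsPullback (𝟙 Y) (𝟙 Y) h h := IsKernelPair.id_of_mono h
  have s := s1.paste_vert s2
  rw [Category.comp_id] at s
  exact MorphismProperty.of_isPullback s hP

variable {I : Type u} [SmallCategory I] [IsCofiltered I] (D : I ⥤ Scheme.{u}) (c : Cone D)
  (hc : IsLimit c) [∀ {i j : I} (f : i ⟶ j), IsAffineHom (D.map f)] {i₀ : I}
  {P : MorphismProperty Scheme.{u}} [P.IsStableUnderBaseChange] [P.IsStableUnderComposition]
  [IsZariskiLocalAtTarget P] [IsZariskiLocalAtSource P]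
  (hcore : Desc.Core P @LocallyOfFinitePresentation)
  (himm : ∀ {A B : Scheme.{u}} (m : A ⟶ B) [IsOpenImmersion m], P m)

include hc hcore himm in
/-- Descent with a quasi-compact source over an arbitrary base. -/
theorem descend {X₀ Y₀ : Scheme.{u}} (f₀ : X₀ ⟶ Y₀) (g₀ : Y₀ ⟶ D.obj i₀) [CompactSpace X₀]
    [LocallyOfFinitePresentation f₀]
    {X Y : Scheme.{u}} (f : X ⟶ Y) (g : Y ⟶ c.pt) (qY : Y ⟶ Y₀) (qX : X ⟶ X₀)
    (hY : IsPullback qY g g₀ (c.π.app i₀)) (hX : IsPullback qX f f₀ qY) (h : P f) :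
    ∃ (j : I) (φ : j ⟶ i₀) (Xj Yj : Scheme.{u}) (fj : Xj ⟶ Yj) (gj : Yj ⟶ D.obj j) (pY : Yj ⟶ Y₀)
      (pX : Xj ⟶ X₀), IsPullback pY gj g₀ (D.map φ) ∧ IsPullback pX fj f₀ pY ∧ P fj := by
  classical
  have hloc : ∀ p : X₀, ∃ (W : X₀.Opens) (j : I) (φ : j ⟶ i₀), p ∈ W ∧
      P (pullback.snd (W.ι ≫ f₀) (pullback.fst g₀ (D.map φ))) := by
    intro p
    obtain ⟨V, hV, hpV, -⟩ := exists_isAffineOpen_mem_and_subset (x := f₀ p) (U := ⊤) trivial
    obtain ⟨W, hW, hpW, hWV⟩ := exists_isAffineOpen_mem_and_subset (x := p) (U := f₀ ⁻¹ᵁ V) hpV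
    haveI : IsAffine (V : Scheme.{u}) := hV
    haveI : IsAffine (W : Scheme.{u}) := hW
    let f₁ : (W : Scheme.{u}) ⟶ V := f₀.resLE V W hWV
    have hf₁ : f₁ ≫ V.ι = W.ι ≫ f₀ := Scheme.Hom.resLE_comp_ι _ _
    have sW := (IsPullback.of_hasPullback W.ι qX).paste_vert hX.flip.flip
    have sV := IsPullback.of_hasPullback V.ι qY
    let f' : pullback W.ι qX ⟶ pullback V.ι qY :=
      sV.lift (pullback.fst W.ι qX ≫ f₁) (pullback.snd W.ι qX ≫ f)
        (by rw [Category.assoc, hf₁]; exact sW.w)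
    have sX : IsPullback (pullback.fst W.ι qX) f' f₁ (pullback.fst V.ι qY) := by
      refine IsPullback.of_bot ?_ (sV.lift_fst _ _ _).symm sV
      rw [sV.lift_snd, hf₁]
      exact sW
    have hf' : P f' := of_comp_mono f' (pullback.snd V.ι qY) (by
      rw [sV.lift_snd]
      exact P.comp_mem _ _ (himm _) h)
    haveI : LocallyOfFinitePresentation f₁ := by
      exact inferInstanceAs (LocallyOfFinitePresentation (f₀.resLE V W hWV))
    haveI : QuasiCompact f₁ := inferInstance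
    haveI : QuasiSeparated f₁ := inferInstance
    obtain ⟨j, φ, Xj, Yj, fj, gj, pY, pX, hYj, hXj, hfj⟩ :=
      Desc.descend₂ D c hc (P := P) (Q := @LocallyOfFinitePresentation) hcore f₁ (V.ι ≫ g₀)
        inferInstance f' (pullback.snd V.ι qY ≫ g) (pullback.fst V.ι qY) (pullback.fst W.ι qX)
        (sV.paste_vert hY) sX hf'
    refine ⟨W, j, φ, hpW, ?_⟩
    let m : Yj ⟶ pullback g₀ (D.map φ) :=
      pullback.lift (pY ≫ V.ι) gj (by rw [Category.assoc]; exact hYj.w)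
    have sm : IsPullback pY m V.ι (pullback.fst g₀ (D.map φ)) := by
      refine IsPullback.of_bot ?_ (pullback.lift_fst _ _ _).symm (IsPullback.of_hasPullback g₀ (D.map φ))
      rw [pullback.lift_snd]
      exact hYj
    haveI : IsOpenImmersion m := MorphismProperty.of_isPullback sm (inferInstance : IsOpenImmersion V.ι)
    have s := hXj.paste_vert sm
    rw [hf₁] at s
    exact Desc.of_two P s (IsPullback.of_hasPullback _ _) (P.comp_mem _ _ hfj (himm m))
  choose W k φ hW hk using hloc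
  obtain ⟨F, hF⟩ := isCompact_univ.elim_finite_subcover (fun p => ((W p : X₀.Opens) : Set X₀))
    (fun p => (W p).2) fun p _ => Set.mem_iUnion.mpr ⟨p, hW p⟩
  obtain ⟨j, ψ, χ, hχ⟩ := IsCofiltered.wideCospan fun p : F => φ p.1
  refine ⟨j, ψ, pullback f₀ (pullback.fst g₀ (D.map ψ)), pullback g₀ (D.map ψ),
    pullback.snd f₀ _, pullback.snd g₀ _, pullback.fst g₀ _, pullback.fst f₀ _,
    IsPullback.of_hasPullback _ _, IsPullback.of_hasPullback _ _, ?_⟩
  refine IsZariskiLocalAtSource.of_iSup_eq_top (P := P)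
    (fun p : F => pullback.fst f₀ (pullback.fst g₀ (D.map ψ)) ⁻¹ᵁ W p.1) ?_ fun p => ?_
  · refine top_le_iff.mp fun x _ => ?_
    obtain ⟨q, hq, hx⟩ :=
      Set.mem_iUnion₂.mp (hF (Set.mem_univ (pullback.fst f₀ (pullback.fst g₀ (D.map ψ)) x)))
    exact Opens.mem_iSup.mpr ⟨⟨q, hq⟩, hx⟩
  · have hp := (isPullback_morphismRestrict (pullback.fst f₀ (pullback.fst g₀ (D.map ψ))) (W p.1)).paste_vert
      (IsPullback.of_hasPullback f₀ (pullback.fst g₀ (D.map ψ)))
    exact Desc.of_factor P (hk p.1)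
      (a := pullback.lift (pullback.fst g₀ (D.map ψ)) (pullback.snd g₀ (D.map ψ) ≫ D.map (χ p))
        (by rw [Category.assoc, ← D.map_comp, hχ p]; exact pullback.condition))
      (pullback.lift_fst _ _ _) hp

include hc hcore himm in
/-- The global equivalence. -/
theorem baseChange_iff {X₀ Y₀ : Scheme.{u}} (f₀ : X₀ ⟶ Y₀) (g₀ : Y₀ ⟶ D.obj i₀)
    [LocallyOfFinitePresentation g₀] [LocallyOfFinitePresentation (f₀ ≫ g₀)] [CompactSpace X₀]
    {X Y : Scheme.{u}} (f : X ⟶ Y) (g : Y ⟶ c.pt) (qY : Y ⟶ Y₀) (qX : X ⟶ X₀)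
    (hY : IsPullback qY g g₀ (c.π.app i₀)) (hX : IsPullback qX f f₀ qY) :
    P f ↔ ∃ (j : I) (φ : j ⟶ i₀) (Xj Yj : Scheme.{u}) (fj : Xj ⟶ Yj) (gj : Yj ⟶ D.obj j) (pY : Yj ⟶ Y₀)
      (pX : Xj ⟶ X₀), IsPullback pY gj g₀ (D.map φ) ∧ IsPullback pX fj f₀ pY ∧ P fj := by
  haveI : LocallyOfFinitePresentation f₀ := Groth.Agent.AlgSpPts.locallyOfFinitePresentation_of_comp f₀ g₀
  refine ⟨descend D c hc hcore himm f₀ g₀ f g qY qX hY hX, ?_⟩
  rintro ⟨j, φ, Xj, Yj, fj, gj, pY, pX, hYj, hXj, h⟩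
  exact Desc.ascend₂ D c (P := P) hY hX hYj hXj h

include hc hcore himm in
/-- The equivalence near a point. -/
theorem nhd_iff {X₀ Y₀ : Scheme.{u}} (f₀ : X₀ ⟶ Y₀) (g₀ : Y₀ ⟶ D.obj i₀)
    [LocallyOfFinitePresentation g₀] [LocallyOfFinitePresentation (f₀ ≫ g₀)]
    {X Y : Scheme.{u}} (f : X ⟶ Y) (g : Y ⟶ c.pt) (qY : Y ⟶ Y₀) (qX : X ⟶ X₀)
    (hY : IsPullback qY g g₀ (c.π.app i₀)) (hX : IsPullback qX f f₀ qY) (x : X) :
    (∃ U : X.Opens, x ∈ U ∧ P (U.ι ≫ f)) ↔
      ∃ (j : I) (φ : j ⟶ i₀) (Xj Yj : Scheme.{u}) (fj : Xj ⟶ Yj) (gj : Yj ⟶ D.obj j) (pY : Yj ⟶ Y₀)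
        (pX : Xj ⟶ X₀) (rX : X ⟶ Xj), IsPullback pY gj g₀ (D.map φ) ∧ IsPullback pX fj f₀ pY ∧
          rX ≫ pX = qX ∧ rX ≫ fj ≫ gj = f ≫ g ≫ c.π.app j ∧
          ∃ V : Xj.Opens, rX.base x ∈ V ∧ P (V.ι ≫ fj) := by
  haveI : LocallyOfFinitePresentation f₀ := Groth.Agent.AlgSpPts.locallyOfFinitePresentation_of_comp f₀ g₀
  constructor
  · rintro ⟨U, hxU, hU⟩
    haveI : ∀ {j k : Over i₀} (m : j ⟶ k), IsAffineHom ((BC.diag D (f₀ ≫ g₀)).map m) := fun m =>
      BC.isAffineHom_map D (f₀ ≫ g₀) m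
    have hXY := hX.paste_vert hY
    obtain ⟨j, -, V, hVc, hxV, hVU⟩ := LimTop.exists_basic (D := BC.diag D (f₀ ≫ g₀))
      (c := BC.cone D (f₀ ≫ g₀) hXY) (BC.isLimitCone D (f₀ ≫ g₀) hXY hc) (Over.mk (𝟙 i₀)) U.2 hxU
    let rX : X ⟶ pullback (f₀ ≫ g₀) (D.map j.hom) := BC.proj D (f₀ ≫ g₀) hXY j
    let fj : pullback (f₀ ≫ g₀) (D.map j.hom) ⟶ pullback g₀ (D.map j.hom) :=
      pullback.lift (pullback.fst _ _ ≫ f₀) (pullback.snd _ _)
        (by rw [Category.assoc]; exact pullback.condition)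
    let rY : Y ⟶ pullback g₀ (D.map j.hom) :=
      pullback.lift qY (g ≫ c.π.app j.left) (by rw [Category.assoc, c.w]; exact hY.w)
    have hXj : IsPullback (pullback.fst (f₀ ≫ g₀) (D.map j.hom)) fj f₀ (pullback.fst g₀ (D.map j.hom)) := by
      refine IsPullback.of_bot ?_ (pullback.lift_fst _ _ _).symm (IsPullback.of_hasPullback g₀ _)
      rw [pullback.lift_snd]
      exact IsPullback.of_hasPullback _ _
    have hr : rX ≫ fj = f ≫ rY := by
      apply pullback.hom_ext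
      · simp only [Category.assoc, fj, rY, pullback.lift_fst]
        rw [BC.proj_fst_assoc]
        exact hX.w
      · simp only [Category.assoc, fj, rY, pullback.lift_snd]
        exact BC.proj_snd D (f₀ ≫ g₀) hXY j
    have hY' : IsPullback rY g (pullback.snd g₀ (D.map j.hom)) (c.π.app j.left) := by
      refine IsPullback.of_right ?_ (pullback.lift_snd _ _ _) (IsPullback.of_hasPullback g₀ (D.map j.hom))
      rw [pullback.lift_fst, c.w]
      exact hY
    have hXr : IsPullback rX f fj rY := by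
      refine IsPullback.of_right ?_ hr hXj
      rw [BC.proj_fst, pullback.lift_fst]
      exact hX
    have hXV := (isPullback_morphismRestrict rX V).paste_vert hXr
    haveI : CompactSpace (V : Scheme.{u}) := isCompact_iff_compactSpace.mp hVc
    haveI : LocallyOfFinitePresentation fj := MorphismProperty.of_isPullback hXj ‹_›
    haveI : LocallyOfFinitePresentation (V.ι ≫ fj) :=
      MorphismProperty.comp_mem @LocallyOfFinitePresentation V.ι fj inferInstance ‹_›
    have hP : P ((rX ⁻¹ᵁ V).ι ≫ f) := by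
      have hle : rX ⁻¹ᵁ V ≤ U := hVU
      rw [← X.homOfLE_ι hle, Category.assoc]
      exact P.comp_mem _ _ (himm _) hU
    obtain ⟨k, ψ, Xk, Yk, fk, gk, pY, pX, hYk, hXk, hk⟩ := descend D c hc hcore himm
      (V.ι ≫ fj) (pullback.snd g₀ (D.map j.hom)) _ g rY (rX ∣_ V) hY' hXV hP
    have hYk₀ : IsPullback (pY ≫ pullback.fst g₀ (D.map j.hom)) gk g₀ (D.map (ψ ≫ j.hom)) := by
      rw [D.map_comp]
      exact hYk.paste_horiz (IsPullback.of_hasPullback g₀ (D.map j.hom))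
    let rYk : Y ⟶ Yk := hYk.lift rY (g ≫ c.π.app k) (by rw [Category.assoc, c.w]; exact hY'.w)
    let rXk : X ⟶ pullback fj pY := pullback.lift rX (f ≫ rYk)
      (by rw [Category.assoc, hYk.lift_fst]; exact hr)
    refine ⟨k, ψ ≫ j.hom, pullback fj pY, Yk, pullback.snd fj pY, gk,
      pY ≫ pullback.fst g₀ (D.map j.hom), pullback.fst fj pY ≫ pullback.fst (f₀ ≫ g₀) (D.map j.hom),
      rXk, hYk₀, (IsPullback.of_hasPullback fj pY).paste_horiz hXj, ?_, ?_,
      pullback.fst fj pY ⁻¹ᵁ V, ?_, ?_⟩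
    · rw [pullback.lift_fst_assoc]
      exact BC.proj_fst D (f₀ ≫ g₀) hXY j
    · rw [pullback.lift_snd_assoc, Category.assoc, hYk.lift_snd]
    · show (rXk ≫ pullback.fst fj pY).base x ∈ V
      rw [pullback.lift_fst]
      exact hxV
    · exact Desc.of_two P hXk ((isPullback_morphismRestrict (pullback.fst fj pY) V).paste_vert
        (IsPullback.of_hasPullback fj pY)) hk
  · rintro ⟨j, φ, Xj, Yj, fj, gj, pY, pX, rX, hYj, hXj, hrX, hr, V, hxV, hV⟩
    let rY : Y ⟶ Yj := hYj.lift qY (g ≫ c.π.app j) (by rw [Category.assoc, c.w]; exact hY.w)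
    have hr' : rX ≫ fj = f ≫ rY := by
      apply hYj.hom_ext
      · rw [Category.assoc, ← hXj.w, reassoc_of% hrX, Category.assoc, hYj.lift_fst]
        exact hX.w
      · rw [Category.assoc, hr, Category.assoc, hYj.lift_snd]
    have hXr : IsPullback rX f fj rY := by
      refine IsPullback.of_right ?_ hr' hXj
      rw [hrX, hYj.lift_fst]
      exact hX
    exact ⟨rX ⁻¹ᵁ V, hxV, MorphismProperty.of_isPullback
      ((isPullback_morphismRestrict rX V).paste_vert hXr) hV⟩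

end Groth.Agent.LimSm
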