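import Groth.Agent.LimSm.Cover
import Groth.Agent.ConsPropLib.NoethApprox

/-! Models over finitely generated rings with given properties. -/

set_option autoImplicit false
set_option linter.style.haveILetI false
universe u

namespace Groth.Agent.LimSm

open AlgebraicGeometry CategoryTheory Limits Groth.Agent.MorLib Groth.Agent.ConsPropLib

set_option backward.isDefEq.respectTransparency.types false in
/-- A morphism of finite presentation with two properties descending along limits has a model over a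
finitely generated subring with both properties. -/
theorem exists_model_over_fg {P P' Q Q' : MorphismProperty Scheme.{u}} [P.IsStableUnderBaseChange]
    [IsZariskiLocalAtTarget P] [P'.IsStableUnderBaseChange] [IsZariskiLocalAtTarget P']
    [Q.IsStableUnderBaseChange] [Q'.IsStableUnderBaseChange]
    (hcore : Desc.Core P Q) (hcore' : Desc.Core P' Q')
    (hQ : ∀ {X Y : Scheme.{u}} (f : X ⟶ Y), LocallyOfFinitePresentation f → Q f)
    (hQ' : ∀ {X Y : Scheme.{u}} (f : X ⟶ Y), LocallyOfFinitePresentation f → Q' f)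
    (A : Type u) [CommRing A] {X : Scheme.{u}} (f : X ⟶ Spec (CommRingCat.of A))
    [LocallyOfFinitePresentation f] [QuasiCompact f] [QuasiSeparated f] (hP : P f) (hP' : P' f) :
    ∃ A₀ : Subalgebra ℤ A, A₀.FG ∧
      ∃ (X₀ : Scheme.{u}) (f₀ : X₀ ⟶ Spec (CommRingCat.of ↥A₀)) (g : X ⟶ X₀),
        P f₀ ∧ P' f₀ ∧ LocallyOfFinitePresentation f₀ ∧ QuasiCompact f₀ ∧ QuasiSeparated f₀ ∧
          IsPullback g f f₀ (Spec.map (CommRingCat.ofHom (algebraMap (↥A₀) A))) := by
  let D := NoethApprox.diagram (CommRingCat.of A)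
  let c : Cone D := NoethApprox.cone (CommRingCat.of A)
  have hc : IsLimit c := NoethApprox.isLimit (CommRingCat.of A)
  haveI : ∀ {i j} (f : i ⟶ j), IsAffineHom (D.map f) := fun f => NoethApprox.isAffineHom_map _ f
  haveI : ∀ i, IsAffine (D.obj i) := fun i => NoethApprox.isAffine_obj _ i
  let fc : X ⟶ c.pt := f
  haveI : LocallyOfFinitePresentation fc := ‹LocallyOfFinitePresentation f›
  haveI : QuasiCompact fc := ‹QuasiCompact f›
  haveI : QuasiSeparated fc := ‹QuasiSeparated f›
  obtain ⟨m, X₁, fm, gm, hm⟩ := hasModel hc fc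
  haveI := hm.qc
  haveI := hm.qs
  haveI := hm.lfp
  obtain ⟨a, φa, ha⟩ := Desc.descend D c hc m (P := P) (Q := Q) hcore fm (hQ _ hm.lfp)
    (Desc.of_two P hm.sq (IsPullback.of_hasPullback _ _) hP)
  obtain ⟨b, φb, hb⟩ := Desc.descend D c hc m (P := P') (Q := Q') hcore' fm (hQ' _ hm.lfp)
    (Desc.of_two P' hm.sq (IsPullback.of_hasPullback _ _) hP')
  obtain ⟨i, α, β, -⟩ := IsCofilteredOrEmpty.cone_objs a b
  have e : β ≫ φb = α ≫ φa := Subsingleton.elim _ _
  have hM := hm.pushed (α ≫ φa)
  refine ⟨Algebra.adjoin ℤ ((i.unop : Finset A) : Set A), Subalgebra.fg_adjoin_finset _,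
    pullback fm (D.map (α ≫ φa)), pullback.snd fm (D.map (α ≫ φa)), hm.push (α ≫ φa), ?_, ?_,
    hM.lfp, hM.qc, hM.qs, hM.sq⟩
  · exact Desc.of_factor P ha (a := D.map α) (D.map_comp _ _).symm (IsPullback.of_hasPullback _ _)
  · exact Desc.of_factor P' hb (a := D.map β) (by rw [← D.map_comp, e]) (IsPullback.of_hasPullback _ _)

end Groth.Agent.LimSm
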