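import Groth.Agent.MorLib.DescendIso
import Groth.Agent.ConsPropLib.Approx
import Groth.Agent.S9218

/-! Isomorphisms and factorisations at stages of a limit. -/

set_option autoImplicit false
set_option linter.style.haveILetI false
universe u

namespace Groth.Agent.LimSm

open AlgebraicGeometry CategoryTheory Limits Groth.Agent.MorLib

theorem factors_iff_isIso {Z₁ Z₂ S T : Scheme.{u}} (ι₁ : Z₁ ⟶ S) (ι₂ : Z₂ ⟶ S) [Mono ι₂] (τ : T ⟶ S) :
    (∃ k : pullback ι₁ τ ⟶ pullback ι₂ τ, k ≫ pullback.snd ι₂ τ = pullback.snd ι₁ τ) ↔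
      IsIso (pullback.snd (pullback.fst ι₁ ι₂) (pullback.fst ι₁ τ)) := by
  constructor
  · rintro ⟨k, hk⟩
    have hb : pullback.fst ι₁ τ ≫ ι₁ = (k ≫ pullback.fst ι₂ τ) ≫ ι₂ := by
      rw [Category.assoc, pullback.condition, pullback.condition, reassoc_of% hk]
    let s : pullback ι₁ τ ⟶ pullback (pullback.fst ι₁ ι₂) (pullback.fst ι₁ τ) :=
      pullback.lift (pullback.lift (pullback.fst ι₁ τ) (k ≫ pullback.fst ι₂ τ) hb) (𝟙 _)
        (by rw [pullback.lift_fst, Category.id_comp])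
    haveI : IsSplitEpi (pullback.snd (pullback.fst ι₁ ι₂) (pullback.fst ι₁ τ)) :=
      IsSplitEpi.mk' ⟨s, pullback.lift_snd _ _ _⟩
    exact isIso_of_mono_of_isSplitEpi _
  · intro h
    refine ⟨pullback.lift (inv (pullback.snd (pullback.fst ι₁ ι₂) (pullback.fst ι₁ τ)) ≫ pullback.fst _ _ ≫
      pullback.snd ι₁ ι₂) (pullback.snd ι₁ τ) ?_, pullback.lift_snd _ _ _⟩
    rw [Category.assoc, Category.assoc, ← pullback.condition (f := ι₁) (g := ι₂), pullback.condition_assoc,
      IsIso.inv_hom_id_assoc, pullback.condition]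

variable {I : Type u} [SmallCategory I] [IsCofiltered I] (D : I ⥤ Scheme.{u}) (c : Cone D) (hc : IsLimit c)
  [∀ (i j : I) (f : i ⟶ j), IsAffineHom (D.map f)] (i₀ : I)

set_option backward.isDefEq.respectTransparency.types false in
include hc in
/-- Two schemes of finite presentation are isomorphic at the limit iff at some stage. -/
theorem exists_iso_stage [CompactSpace (D.obj i₀)] [QuasiSeparatedSpace (D.obj i₀)]
    {X₀ Y₀ : Scheme.{u}} (a₀ : X₀ ⟶ D.obj i₀) (b₀ : Y₀ ⟶ D.obj i₀)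
    [LocallyOfFinitePresentation a₀] [QuasiCompact a₀] [QuasiSeparated a₀]
    [LocallyOfFinitePresentation b₀] [QuasiCompact b₀] [QuasiSeparated b₀]
    {X Y : Scheme.{u}} (a : X ⟶ c.pt) (b : Y ⟶ c.pt) (qX : X ⟶ X₀) (qY : Y ⟶ Y₀)
    (hX : IsPullback qX a a₀ (c.π.app i₀)) (hY : IsPullback qY b b₀ (c.π.app i₀)) (g : X ≅ Y)
    (hg : g.hom ≫ b = a) :
    ∃ (j : I) (φ : j ⟶ i₀) (e : pullback a₀ (D.map φ) ≅ pullback b₀ (D.map φ)),
      e.hom ≫ pullback.snd b₀ (D.map φ) = pullback.snd a₀ (D.map φ) := by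
  haveI : ∀ {i j : I} (f : i ⟶ j), IsAffineHom (D.map f) := fun {i j} f => inferInstance
  haveI : CompactSpace X₀ := QuasiCompact.compactSpace_of_compactSpace a₀
  haveI : QuasiSeparatedSpace X₀ := quasiSeparatedSpace_of_quasiSeparated a₀
  haveI : CompactSpace Y₀ := QuasiCompact.compactSpace_of_compactSpace b₀
  haveI : QuasiSeparatedSpace Y₀ := quasiSeparatedSpace_of_quasiSeparated b₀
  obtain ⟨j, φ, gj, sA, sB, hgj, hA1, hA2, hB1, hB2, hs⟩ :=
    Groth.Agent.S9218.result D c hc i₀ a₀ b₀ _ _ hX _ _ hY g.hom hg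
  have mX : ConsPropLib.IsModel a i₀ a₀ qX := ⟨inferInstance, inferInstance, inferInstance, hX⟩
  have mY : ConsPropLib.IsModel b i₀ b₀ qY := ⟨inferInstance, inferInstance, inferInstance, hY⟩
  have eA : sA = mX.push φ := pullback.hom_ext (hA1.trans (mX.push_fst φ).symm) (hA2.trans (mX.push_snd φ).symm)
  have eB : sB = mY.push φ := pullback.hom_ext (hB1.trans (mY.push_fst φ).symm) (hB2.trans (mY.push_snd φ).symm)
  subst eA eB
  have sqg : IsPullback (mX.push φ) g.hom gj (mY.push φ) := by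
    refine IsPullback.of_bot ?_ hs (mY.pushed φ).sq
    rw [hgj, hg]
    exact (mX.pushed φ).sq
  haveI := (mX.pushed φ).lfp; haveI := (mX.pushed φ).qc; haveI := (mX.pushed φ).qs
  haveI := (mY.pushed φ).lfp; haveI := (mY.pushed φ).qc; haveI := (mY.pushed φ).qs
  haveI : LocallyOfFinitePresentation (gj ≫ pullback.snd b₀ (D.map φ)) := by rw [hgj]; infer_instance
  haveI : QuasiCompact (gj ≫ pullback.snd b₀ (D.map φ)) := by rw [hgj]; infer_instance
  haveI : QuasiSeparated (gj ≫ pullback.snd b₀ (D.map φ)) := by rw [hgj]; infer_instance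
  haveI : LocallyOfFinitePresentation gj :=
    Groth.Agent.AlgSpPts.locallyOfFinitePresentation_of_comp gj (pullback.snd b₀ (D.map φ))
  haveI : QuasiCompact gj := QuasiCompact.of_comp gj (pullback.snd b₀ (D.map φ))
  haveI : QuasiSeparated gj := QuasiSeparated.of_comp gj (pullback.snd b₀ (D.map φ))
  haveI : CompactSpace ↥(pullback b₀ (D.map φ)) :=
    QuasiCompact.compactSpace_of_compactSpace (pullback.fst b₀ (D.map φ))
  haveI : MorphismProperty.RespectsIso (@LocallyOfFinitePresentation : MorphismProperty Scheme.{u}) :=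
    MorphismProperty.IsStableUnderBaseChange.respectsIso
  obtain ⟨l, ψ, Xl, Yl, gl, gYl, pY, pX, sYl, sXl, hiso⟩ := Desc.descend₂ D c hc
    (P := MorphismProperty.isomorphisms Scheme.{u}) (Q := @LocallyOfFinitePresentation) Desc.core_iso gj
    (pullback.snd b₀ (D.map φ)) inferInstance g.hom _ _ _ (mY.pushed φ).sq sqg
    (inferInstanceAs (IsIso g.hom))
  haveI : IsIso gl := hiso
  have tY := sYl.paste_horiz (IsPullback.of_hasPullback b₀ (D.map φ))
  rw [← D.map_comp] at tY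
  have tX := sXl.paste_vert sYl
  rw [hgj] at tX
  have tX' := tX.paste_horiz (IsPullback.of_hasPullback a₀ (D.map φ))
  rw [← D.map_comp] at tX'
  refine ⟨l, ψ ≫ φ, tX'.isoPullback.symm ≪≫ asIso gl ≪≫ tY.isoPullback, ?_⟩
  simp [Iso.inv_comp_eq]

set_option backward.isDefEq.respectTransparency.types false in
include hc in
/-- A factorisation through an immersion of finite presentation exists at the limit iff at some stage. -/
theorem exists_factor_stage [CompactSpace (D.obj i₀)] {Z₁ Z₂ : Scheme.{u}} (ι₁ : Z₁ ⟶ D.obj i₀)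
    (ι₂ : Z₂ ⟶ D.obj i₀) [QuasiCompact ι₁] [Mono ι₂] [LocallyOfFinitePresentation ι₂] [QuasiCompact ι₂]
    [QuasiSeparated ι₂]
    (h : ∃ k : pullback ι₁ (c.π.app i₀) ⟶ pullback ι₂ (c.π.app i₀),
        k ≫ pullback.snd ι₂ (c.π.app i₀) = pullback.snd ι₁ (c.π.app i₀)) :
    ∃ (j : I) (φ : j ⟶ i₀) (k : pullback ι₁ (D.map φ) ⟶ pullback ι₂ (D.map φ)),
        k ≫ pullback.snd ι₂ (D.map φ) = pullback.snd ι₁ (D.map φ) := by
  haveI : ∀ {i j : I} (f : i ⟶ j), IsAffineHom (D.map f) := fun {i j} f => inferInstance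
  haveI : CompactSpace Z₁ := QuasiCompact.compactSpace_of_compactSpace ι₁
  haveI : MorphismProperty.RespectsIso (@LocallyOfFinitePresentation : MorphismProperty Scheme.{u}) :=
    MorphismProperty.IsStableUnderBaseChange.respectsIso
  obtain ⟨j, φ, Xj, Yj, fj, gj, pY, pX, sY, sX, hiso⟩ := Desc.descend₂ D c hc
    (P := MorphismProperty.isomorphisms Scheme.{u}) (Q := @LocallyOfFinitePresentation) Desc.core_iso
    (pullback.fst ι₁ ι₂) ι₁ inferInstance _ _ _ _ (IsPullback.of_hasPullback ι₁ (c.π.app i₀))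
    (IsPullback.of_hasPullback _ _) ((factors_iff_isIso ι₁ ι₂ _).1 h)
  refine ⟨j, φ, (factors_iff_isIso ι₁ ι₂ _).2 ?_⟩
  exact Desc.of_factor (MorphismProperty.isomorphisms Scheme.{u})
    (Desc.of_two (MorphismProperty.isomorphisms Scheme.{u}) sX (IsPullback.of_hasPullback _ _) hiso)
    (a := sY.lift (pullback.fst _ _) (pullback.snd _ _) pullback.condition) (sY.lift_fst _ _ _)
    (IsPullback.of_hasPullback _ _)

end Groth.Agent.LimSm
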