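import Groth.Agent.LimSm.Flat
import Groth.Agent.LimSm.Descend
import Groth.Agent.ConsPropLib.Approx
import Mathlib.AlgebraicGeometry.Morphisms.UniversallyOpen

/-! Descent of flat or etale coverings along limits. -/

set_option autoImplicit false
universe u

namespace Groth.Agent.LimSm

open AlgebraicGeometry CategoryTheory Limits TopologicalSpace Groth.Agent.MorLib Groth.Agent.ConsPropLib

set_option backward.isDefEq.respectTransparency.types false in
/-- Descent of a covering, all stages being quasi-compact and quasi-separated. -/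
theorem exists_descend_cover_aux {P : MorphismProperty Scheme.{u}} [P.IsStableUnderBaseChange] [P.RespectsIso]
    [IsZariskiLocalAtTarget P] (hcore : Desc.Core P @LocallyOfFinitePresentation)
    (hopen : ∀ {X Y : Scheme.{u}} (f : X ⟶ Y), LocallyOfFinitePresentation f → P f → IsOpen (Set.range f))
    {I : Type u} [SmallCategory I] [IsCofiltered I] (D : I ⥤ Scheme.{u}) (c : Cone D) (hc : IsLimit c)
    [∀ {i j : I} (f : i ⟶ j), IsAffineHom (D.map f)] [∀ i, CompactSpace (D.obj i)]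
    [∀ i, QuasiSeparatedSpace (D.obj i)] {ι : Type u} (U : ι → Scheme.{u}) (u : ∀ a, U a ⟶ c.pt)
    (hP : ∀ a, P (u a)) [∀ a, LocallyOfFinitePresentation (u a)] [∀ a, QuasiCompact (u a)]
    [∀ a, QuasiSeparated (u a)] (hcov : ∀ x : c.pt, ∃ (a : ι) (y : U a), u a y = x) :
    ∃ (i : I) (n : ℕ) (V : Fin n → Scheme.{u}) (v : ∀ j, V j ⟶ D.obj i) (a : Fin n → ι)
      (e : ∀ j, U (a j) ⟶ V j),
      (∀ j, P (v j) ∧ LocallyOfFinitePresentation (v j) ∧ QuasiCompact (v j) ∧ QuasiSeparated (v j)) ∧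
      (∀ x : D.obj i, ∃ (j : Fin n) (y : V j), v j y = x) ∧
      ∀ j, IsPullback (e j) (u (a j)) (v j) (c.π.app i) := by
  classical
  haveI := Scheme.compactSpace_of_isLimit D c hc
  obtain ⟨s, hs⟩ := isCompact_univ.elim_finite_subcover (fun a => Set.range (u a))
    (fun a => hopen (u a) inferInstance (hP a)) fun x _ => Set.mem_iUnion.2 (hcov x)
  let n := s.card
  let a : Fin n → ι := fun j => (s.equivFin.symm j).1
  have hacov : ∀ x : c.pt, ∃ (j : Fin n) (y : U (a j)), u (a j) y = x := fun x => by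
    obtain ⟨b, hb, y, hy⟩ := Set.mem_iUnion₂.1 (hs (Set.mem_univ x))
    exact ⟨s.equivFin ⟨b, hb⟩, by
      show ∃ y, u (s.equivFin.symm (s.equivFin ⟨b, hb⟩)).1 y = x
      rw [Equiv.symm_apply_apply]; exact ⟨y, hy⟩⟩
  choose m Xm fm gm hm using fun j : Fin n => hasModel hc (u (a j))
  -- a stage at which all models have the property
  have hstage : ∀ j, ∃ (k : I) (φ : k ⟶ m j), P (pullback.snd (fm j) (D.map φ)) := fun j => by
    haveI := (hm j).qc
    haveI := (hm j).qs
    exact Desc.descend D c hc (m j) hcore (fm j) (hm j).lfp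
      (Desc.of_two P (hm j).sq (IsPullback.of_hasPullback _ _) (hP (a j)))
  choose k φ hk using hstage
  obtain ⟨i, hi⟩ := IsCofiltered.inf_objs_exists (Finset.univ.image k)
  let ψ : ∀ j, i ⟶ k j := fun j => (hi (Finset.mem_image_of_mem k (Finset.mem_univ j))).some
  have hMi : ∀ j, IsModel (u (a j)) i (pullback.snd (fm j) (D.map (ψ j ≫ φ j))) ((hm j).push (ψ j ≫ φ j)) :=
    fun j => (hm j).pushed _
  have hPi : ∀ j, P (pullback.snd (fm j) (D.map (ψ j ≫ φ j))) := fun j =>
    Desc.of_factor P (hk j) (a := D.map (ψ j)) (D.map_comp _ _).symm (IsPullback.of_hasPullback _ _)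
  let W : (D.obj i).Opens := ⟨⋃ j, Set.range (pullback.snd (fm j) (D.map (ψ j ≫ φ j))),
    isOpen_iUnion fun j => hopen _ (hMi j).lfp (hPi j)⟩
  obtain ⟨i', θ, hθ⟩ := exists_map_eq_top D c hc W (top_le_iff.1 fun x _ => by
    obtain ⟨j, y, rfl⟩ := hacov x
    exact Set.mem_iUnion.2 ⟨j, (hm j).push (ψ j ≫ φ j) y, by
      rw [← Scheme.Hom.comp_apply, (hMi j).sq.w, Scheme.Hom.comp_apply]⟩)
  refine ⟨i', n, _, fun j => pullback.snd (pullback.snd (fm j) (D.map (ψ j ≫ φ j))) (D.map θ), a,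
    fun j => (hMi j).push θ, fun j => ?_, fun x => ?_, fun j => ((hMi j).pushed θ).sq⟩
  · exact ⟨MorphismProperty.of_isPullback (IsPullback.of_hasPullback _ _) (hPi j), ((hMi j).pushed θ).lfp,
      ((hMi j).pushed θ).qc, ((hMi j).pushed θ).qs⟩
  · obtain ⟨j, hj⟩ := Set.mem_iUnion.1 (hθ.ge (Set.mem_univ x) : D.map θ x ∈ W)
    have : x ∈ Set.range (pullback.snd (pullback.snd (fm j) (D.map (ψ j ≫ φ j))) (D.map θ)) := by
      rw [Scheme.Pullback.range_snd]; exact hj
    exact ⟨j, this⟩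

set_option backward.isDefEq.respectTransparency.types false in
/-- Descent of a covering. -/
theorem exists_descend_cover {P : MorphismProperty Scheme.{u}} [P.IsStableUnderBaseChange] [P.RespectsIso]
    [IsZariskiLocalAtTarget P] (hcore : Desc.Core P @LocallyOfFinitePresentation)
    (hopen : ∀ {X Y : Scheme.{u}} (f : X ⟶ Y), LocallyOfFinitePresentation f → P f → IsOpen (Set.range f))
    {I : Type u} [SmallCategory I] [IsCofiltered I] (D : I ⥤ Scheme.{u}) (c : Cone D) (hc : IsLimit c)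
    [∀ (i j : I) (f : i ⟶ j), IsAffineHom (D.map f)] (i₀ : I) [CompactSpace (D.obj i₀)]
    [QuasiSeparatedSpace (D.obj i₀)] {ι : Type u} (U : ι → Scheme.{u}) (u : ∀ a, U a ⟶ c.pt)
    (hP : ∀ a, P (u a)) [∀ a, LocallyOfFinitePresentation (u a)] [∀ a, QuasiCompact (u a)]
    [∀ a, QuasiSeparated (u a)] (hcov : ∀ x : c.pt, ∃ (a : ι) (y : U a), u a y = x) :
    ∃ (i : I) (n : ℕ) (V : Fin n → Scheme.{u}) (v : ∀ j, V j ⟶ D.obj i) (a : Fin n → ι)
      (e : ∀ j, U (a j) ⟶ V j),
      (∀ j, P (v j) ∧ LocallyOfFinitePresentation (v j) ∧ QuasiCompact (v j) ∧ QuasiSeparated (v j)) ∧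
      (∀ x : D.obj i, ∃ (j : Fin n) (y : V j), v j y = x) ∧
      ∀ j, IsPullback (e j) (u (a j)) (v j) (c.π.app i) := by
  let E := Over.forget i₀ ⋙ D
  haveI : ∀ j, CompactSpace (E.obj j) := fun j => QuasiCompact.compactSpace_of_compactSpace (D.map j.hom)
  haveI : ∀ j, QuasiSeparatedSpace (E.obj j) := fun j => quasiSeparatedSpace_of_quasiSeparated (D.map j.hom)
  haveI : ∀ {j k : Over i₀} (f : j ⟶ k), IsAffineHom (E.map f) := fun f =>
    inferInstanceAs (IsAffineHom (D.map f.left))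
  obtain ⟨i, n, V, v, a, e, h⟩ := exists_descend_cover_aux hcore hopen E (c.whisker (Over.forget i₀))
    ((Functor.Initial.isLimitWhiskerEquiv (Over.forget i₀) c).symm hc) U u hP hcov
  exact ⟨i.left, n, V, v, a, e, h⟩

end Groth.Agent.LimSm
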